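import Cfsg.Agent.Lib.RankMeet.Families
import Cfsg.Agent.Lib.JComp.Unique
import Cfsg.Prelude.Def_CaseTheorems

/-!
# A single class of maximal 2-locals (S3245)

`exists_stronglyEmbedded` : if all maximal 2-local subgroups are conjugate, then each of them is
strongly embedded: two distinct ones share no nontrivial 2-subgroup.
-/

set_option autoImplicit false

namespace Cfsg.Agent.OneClassLocal

open Cfsg

universe u

variable {G : Type u} [Group G] [Finite G]

/-- Conjugacy of all maximal 2-local subgroups. -/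
def OneClass (G : Type u) [Group G] : Prop :=
  ∀ M M' : Subgroup G, IsMaximalTwoLocal M → IsMaximalTwoLocal M' →
    ∃ g : G, M' = M.map (MulAut.conj g).toMonoidHom

omit [Finite G] in
theorem map_conj_mem' {M : Subgroup G} {g x : G} (hx : x ∈ M) :
    g * x * g⁻¹ ∈ M.map (MulAut.conj g).toMonoidHom :=
  ⟨x, hx, by simp⟩

/-- A Sylow 2-subgroup lies in only one maximal 2-local subgroup. -/
theorem eq_of_sylow_le (h1 : OneClass G) (T : Sylow 2 G) (hT : (T : Subgroup G) ≠ ⊥)
    {L : Subgroup G} (hL : IsMaximalTwoLocal L) (hTL : (T : Subgroup G) ≤ L)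
    {L' : Subgroup G} (hL' : IsMaximalTwoLocal L') (hTL' : (T : Subgroup G) ≤ L') : L = L' := by
  classical
  haveI : Fact (Nat.Prime 2) := ⟨Nat.prime_two⟩
  -- a maximal 2-local over the normaliser of `T`
  obtain ⟨M, hM, hNM⟩ := JComp.exists_maximal_ge
    (⟨(T : Subgroup G), T.isPGroup', hT, rfl⟩ :
      IsTwoLocal (Subgroup.normalizer ((T : Subgroup G) : Set G)))
  suffices key : ∀ K : Subgroup G, IsMaximalTwoLocal K → (T : Subgroup G) ≤ K → K = M by
    rw [key L hL hTL, key L' hL' hTL']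
  intro K hK hTK
  obtain ⟨g, hg⟩ := h1 M K hM hK
  have hTM : (T : Subgroup G) ≤ M := Subgroup.le_normalizer.trans hNM
  have hT2 : (((g • T : Sylow 2 G)) : Subgroup G) ≤ K := by
    intro x hx
    obtain ⟨y, hy, rfl⟩ := hx
    rw [hg]
    exact ⟨y, hTM hy, rfl⟩
  obtain ⟨k, hk⟩ := MulAction.exists_smul_eq ↥K ((g • T : Sylow 2 G).subtype hT2) (T.subtype hTK)
  rw [Sylow.smul_subtype] at hk
  have hk' : (k : G) • (g • T) = T := Sylow.subtype_injective hk
  rw [smul_smul, Sylow.smul_eq_iff_mem_normalizer] at hk'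
  have e : M.map (MulAut.conj ((k : G) * g)).toMonoidHom = M := JComp.map_conj_mem (hNM hk')
  rw [← JComp.map_map_conj, ← hg, JComp.map_conj_mem k.2] at e
  exact e

/-- Distinct maximal 2-local subgroups share no nontrivial 2-subgroup. -/
theorem eq_of_two_group_le (h1 : OneClass G) (h2 : 2 ∣ Nat.card G) {D : Subgroup G}
    (hD : IsPGroup 2 D) (hD1 : D ≠ ⊥) {L : Subgroup G} (hL : IsMaximalTwoLocal L) (hDL : D ≤ L)
    {L' : Subgroup G} (hL' : IsMaximalTwoLocal L') (hDL' : D ≤ L') : L = L' := by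
  classical
  haveI : Fact (Nat.Prime 2) := ⟨Nat.prime_two⟩
  by_contra hne
  set 𝒟 : Set (Subgroup G) := {E | IsPGroup 2 E ∧ E ≠ ⊥ ∧ ∃ A B : Subgroup G,
    IsMaximalTwoLocal A ∧ IsMaximalTwoLocal B ∧ A ≠ B ∧ E ≤ A ∧ E ≤ B}
  obtain ⟨E, ⟨hE, hE1, A, B, hA, hB, hAB, hEA, hEB⟩, hmax⟩ :=
    Set.exists_max_image 𝒟 (fun E => Nat.card E) (Set.toFinite _)
      ⟨D, hD, hD1, L, L', hL, hL', hne, hDL, hDL'⟩
  obtain ⟨C, hC, hNC⟩ := JComp.exists_maximal_ge
    (⟨E, hE, hE1, rfl⟩ : IsTwoLocal (Subgroup.normalizer (E : Set G)))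
  -- every maximal 2-local over `E` contains a Sylow 2-subgroup of `G`
  have hsyl : ∀ K : Subgroup G, IsMaximalTwoLocal K → E ≤ K →
      ∃ P : Sylow 2 G, E ≤ (P : Subgroup G) ∧ (P : Subgroup G) ≤ K := by
    intro K hK hEK
    obtain ⟨T⟩ : Nonempty (Sylow 2 G) := inferInstance
    have hT : (T : Subgroup G) ≠ ⊥ := T.ne_bot_of_dvd_card h2
    obtain ⟨M, hM, hNM⟩ := JComp.exists_maximal_ge
      (⟨(T : Subgroup G), T.isPGroup', hT, rfl⟩ :
        IsTwoLocal (Subgroup.normalizer ((T : Subgroup G) : Set G)))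
    obtain ⟨g, hg⟩ := h1 M K hM hK
    have hgK : (((g • T : Sylow 2 G)) : Subgroup G) ≤ K := by
      intro x hx
      obtain ⟨y, hy, rfl⟩ := hx
      rw [hg]
      exact ⟨y, hNM (Subgroup.le_normalizer hy), rfl⟩
    obtain ⟨Q, hQ⟩ := (hE.comap_subtype (K := K)).exists_le_sylow
    obtain ⟨k, hk⟩ := MulAction.exists_smul_eq ↥K ((g • T : Sylow 2 G).subtype hgK) Q
    rw [Sylow.smul_subtype] at hk
    refine ⟨(k : G) • (g • T), fun x hx => ?_, Sylow.smul_le hgK k⟩
    have hxQ := hQ (show (⟨x, hEK hx⟩ : ↥K) ∈ E.subgroupOf K from hx)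
    rw [← hk] at hxQ
    exact hxQ
  have hstep : ∀ K : Subgroup G, IsMaximalTwoLocal K → E ≤ K →
      K = C ∨ ∃ P : Sylow 2 G, E = (P : Subgroup G) := by
    intro K hK hEK
    obtain ⟨P, hEP, hPK⟩ := hsyl K hK hEK
    by_cases hEPe : E = (P : Subgroup G)
    · exact Or.inr ⟨P, hEPe⟩
    left
    by_contra hKC
    set F := (P : Subgroup G) ⊓ Subgroup.normalizer (E : Set G) with hF
    have hEF : E < F := by
      haveI : Group.IsNilpotent ↥(P : Subgroup G) := P.isPGroup'.isNilpotent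
      have hlt : E.subgroupOf (P : Subgroup G) < ⊤ := lt_top_iff_ne_top.2 fun h =>
        hEPe (le_antisymm hEP (Subgroup.subgroupOf_eq_top.1 h))
      have hnc := normalizerCondition_of_isNilpotent (E.subgroupOf (P : Subgroup G)) hlt
      refine lt_of_le_of_ne (le_inf hEP Subgroup.le_normalizer) fun he => hnc.ne ?_
      refine le_antisymm Subgroup.le_normalizer fun x hx => ?_
      have hxn : (x : G) ∈ Subgroup.normalizer (E : Set G) := by
        rw [Subgroup.mem_normalizer_iff]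
        intro y
        constructor
        · intro hy
          exact ((Subgroup.mem_normalizer_iff.1 hx) ⟨y, hEP hy⟩).1 hy
        · intro hy
          have hyP : y ∈ (P : Subgroup G) := by
            have := P.mul_mem (P.mul_mem (P.inv_mem x.2) (hEP hy)) x.2
            simpa [mul_assoc] using this
          exact ((Subgroup.mem_normalizer_iff.1 hx) ⟨y, hyP⟩).2 hy
      rw [Subgroup.mem_subgroupOf, he]
      exact ⟨x.2, hxn⟩
    have : Nat.card F ≤ Nat.card E := hmax F
      ⟨P.isPGroup'.to_le inf_le_left, fun h => not_lt_bot (h ▸ hEF), K, C, hK, hC, hKC,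
        inf_le_left.trans hPK, inf_le_right.trans hNC⟩
    exact hEF.ne (Subgroup.eq_of_le_of_card_ge hEF.le this)
  rcases hstep A hA hEA with hAC | ⟨P, rfl⟩
  · rcases hstep B hB hEB with hBC | ⟨P, rfl⟩
    · exact hAB (hAC.trans hBC.symm)
    · exact hAB (eq_of_sylow_le h1 P hE1 hA hEA hB hEB)
  · exact hAB (eq_of_sylow_le h1 P hE1 hA hEA hB hEB)

/-- A maximal 2-local subgroup is strongly embedded. -/
theorem exists_stronglyEmbedded [IsSimpleGroup G] (hG : ¬ IsMulCommutative G) (h1 : OneClass G) :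
    ∃ H : Subgroup G, IsStronglyEmbedded H := by
  classical
  haveI : Fact (Nat.Prime 2) := ⟨Nat.prime_two⟩
  have h2 : 2 ∣ Nat.card G := by
    by_contra h
    haveI := OddOrderTheorem.solvable (G := G) (Nat.odd_iff.2 (by omega))
    exact hG ⟨⟨fun a b => IsSimpleGroup.comm_iff_isSolvable.2 this a b⟩⟩
  obtain ⟨T⟩ : Nonempty (Sylow 2 G) := inferInstance
  have hT : (T : Subgroup G) ≠ ⊥ := T.ne_bot_of_dvd_card h2
  obtain ⟨M, hM, hNM⟩ := JComp.exists_maximal_ge
    (⟨(T : Subgroup G), T.isPGroup', hT, rfl⟩ :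
      IsTwoLocal (Subgroup.normalizer ((T : Subgroup G) : Set G)))
  refine ⟨M, fun htop => ?_, ?_, fun g hg => ?_⟩
  · obtain ⟨R, hR, hR1, he⟩ := hM.1
    haveI : R.Normal := Subgroup.normalizer_eq_top_iff.1 (he.symm.trans htop)
    have hRt : R = ⊤ := (IsSimpleGroup.eq_bot_or_eq_top_of_normal R inferInstance).resolve_left hR1
    subst hRt
    haveI : Group.IsNilpotent G := (hR.of_equiv Subgroup.topEquiv).isNilpotent
    exact hG ⟨⟨fun a b => IsSimpleGroup.comm_iff_isSolvable.2 inferInstance a b⟩⟩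
  · exact even_iff_two_dvd.2 ((T.dvd_card_of_dvd_card h2).trans
      (Subgroup.card_dvd_of_le (Subgroup.le_normalizer.trans hNM)))
  · rw [← Nat.not_even_iff_odd, even_iff_two_dvd]
    intro hev
    obtain ⟨u, hu⟩ := exists_prime_orderOf_dvd_card' 2 hev
    have hu' : orderOf (u : G) = 2 := by rw [Subgroup.orderOf_coe, hu]
    refine hg (JComp.mem_of_normalizes hM (eq_of_two_group_le h1 h2
      (D := Subgroup.zpowers (u : G)) (IsPGroup.of_card (n := 1) ?_) ?_ (JComp.isMax_map hM g) ?_ hM ?_))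
    · rw [Nat.card_zpowers, hu', pow_one]
    · rw [Ne, Subgroup.zpowers_eq_bot]
      intro h
      rw [h, orderOf_one] at hu'
      omega
    · exact Subgroup.zpowers_le.2 u.2.2
    · exact Subgroup.zpowers_le.2 u.2.1

/-- The groups that occur. -/
theorem threeFam [IsSimpleGroup G] (hG : ¬ IsMulCommutative G) (h1 : OneClass G) :
    RankMeet.ThreeFam G := by
  obtain ⟨H, hH⟩ := exists_stronglyEmbedded hG h1
  exact RankMeet.threeFam_of_stronglyEmbedded hH

end Cfsg.Agent.OneClassLocal
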